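import Mathlib

/-!
# Witt vectors of weakly cyclic extensions

If `B` is spanned over `A` by finitely many `w i` with `c ^ (p-1) * w i = (w (σ i)) ^ p * γ i`, then
`[c] * W(B)` lies in the `W(A)`-span of the Teichmüller representatives `[w i]`.
-/

open WittVector

namespace GrothLib.WittCyclic

variable {p : ℕ} [Fact p.Prime]

local notation "τ" => WittVector.teichmuller p

theorem frobenius_teichmuller {B : Type*} [CommRing B] [CharP B p] (b : B) :
    WittVector.frobenius (τ b) = τ (b ^ p) := by
  rw [WittVector.frobenius_eq_map_frobenius, WittVector.map_teichmuller]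
  rfl

theorem iterate_frobenius_teichmuller {B : Type*} [CommRing B] [CharP B p] (n : ℕ) (b : B) :
    (WittVector.frobenius^[n]) (τ b) = τ (b ^ p ^ n) := by
  induction n with
  | zero => simp
  | succ n ih => rw [Function.iterate_succ_apply', ih, frobenius_teichmuller, ← pow_mul, pow_succ]

theorem verschiebung_mul_teichmuller {B : Type*} [CommRing B] [CharP B p] (x : WittVector p B) (b : B) :
    verschiebung x * τ b = verschiebung (x * τ (b ^ p)) := by
  rw [← frobenius_teichmuller, verschiebung_mul_frobenius]

theorem iterate_verschiebung_mul_teichmuller {B : Type*} [CommRing B] [CharP B p] (n : ℕ)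
    (x : WittVector p B) (b : B) :
    (verschiebung^[n]) x * τ b = (verschiebung^[n]) (x * τ (b ^ p ^ n)) := by
  rw [iterate_verschiebung_mul_left, iterate_frobenius_teichmuller]

theorem truncate_eq_iff {B : Type*} [CommRing B] {k : ℕ} {x y : WittVector p B} :
    truncate k x = truncate k y ↔ ∀ i < k, x.coeff i = y.coeff i := by
  constructor
  · intro h i hi
    have := congrArg (TruncatedWittVector.coeff ⟨i, hi⟩) h
    simpa using this
  · intro h
    ext i
    simpa using h i i.2

theorem truncate_verschiebung_congr {B : Type*} [CommRing B] {k : ℕ} {x y : WittVector p B}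
    (h : truncate k x = truncate k y) :
    truncate (k + 1) (verschiebung x) = truncate (k + 1) (verschiebung y) := by
  rw [truncate_eq_iff] at h ⊢
  intro i hi
  cases i with
  | zero => rw [verschiebung_coeff_zero, verschiebung_coeff_zero]
  | succ j => rw [verschiebung_coeff_succ, verschiebung_coeff_succ, h j (by omega)]

theorem truncate_map_congr {A B : Type*} [CommRing A] [CommRing B] (f : A →+* B) {k : ℕ}
    {x y : WittVector p A} (h : truncate k x = truncate k y) :
    truncate k (WittVector.map f x) = truncate k (WittVector.map f y) := by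
  rw [truncate_eq_iff] at h ⊢
  intro i hi
  rw [map_coeff, map_coeff, h i hi]

theorem exists_decomp {A B : Type*} [CommRing A] [CommRing B] [CharP A p] [CharP B p]
    {ι : Type*} [Fintype ι] [DecidableEq ι] (f : A →+* B) (w : ι → B) (C : A) (σ : ι → ι) (γ : ι → A)
    (hspan : ∀ b, ∃ a : ι → A, b = ∑ i, f (a i) * w i)
    (hσ : ∀ i, f C ^ (p - 1) * w i = w (σ i) ^ p * f (γ i)) (x : WittVector p B) :
    ∃ u : ι → WittVector p A, τ (f C) * x = ∑ i, τ (w i) * WittVector.map f (u i) := by
  choose a ha using hspan
  let lead : WittVector p B → WittVector p B := fun x => ∑ i, τ (w i) * τ (f (a (x.coeff 0) i))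
  let nx : WittVector p B → WittVector p B := fun x => (x - lead x).shift 1
  have hnx : ∀ x, x = lead x + verschiebung (nx x) := by
    intro x
    have h0 : ∀ i < 1, (x - lead x).coeff i = 0 := by
      intro i hi
      obtain rfl : i = 0 := by omega
      show constantCoeff (x - lead x) = 0
      rw [map_sub, sub_eq_zero]
      simp only [lead, map_sum, map_mul]
      show x.coeff 0 = ∑ i, w i * f (a (x.coeff 0) i)
      conv_lhs => rw [ha (x.coeff 0)]
      exact Finset.sum_congr rfl fun i _ => mul_comm _ _
    have := eq_iterate_verschiebung h0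
    rw [Function.iterate_one] at this
    show x = lead x + verschiebung ((x - lead x).shift 1)
    rw [← this]; ring
  let U : ℕ → WittVector p B → ι → WittVector p A := fun k => Nat.rec (fun _ _ => 0)
    (fun _ Uk x i => τ (C * a (x.coeff 0) i) +
      verschiebung (∑ j ∈ Finset.univ.filter (fun j => σ j = i), τ (γ j) * Uk (nx x) j)) k
  have hU : ∀ k x i, U (k + 1) x i = τ (C * a (x.coeff 0) i) +
      verschiebung (∑ j ∈ Finset.univ.filter (fun j => σ j = i), τ (γ j) * U k (nx x) j) := fun _ _ _ => rfl
  have hstab : ∀ k x i, truncate k (U (k + 1) x i) = truncate k (U k x i) := by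
    intro k
    induction k with
    | zero => intro x i; ext j; exact j.elim0
    | succ k ih =>
      intro x i
      rw [hU (k + 1), hU k, map_add, map_add]
      congr 1
      refine truncate_verschiebung_congr ?_
      rw [map_sum, map_sum]
      exact Finset.sum_congr rfl fun j _ => by rw [map_mul, map_mul, ih]
  have hclaim : ∀ k x, truncate k (τ (f C) * x) = truncate k (∑ i, τ (w i) * WittVector.map f (U k x i)) := by
    intro k
    induction k with
    | zero => intro x; ext j; exact j.elim0
    | succ k ih =>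
      intro x
      have e1 : τ (f C) * x = (∑ i, τ (w i) * τ (f (C * a (x.coeff 0) i)))
          + verschiebung (τ (f C ^ (p - 1)) * (τ (f C) * nx x)) := by
        conv_lhs => rw [hnx x, mul_add, mul_comm _ (verschiebung _), verschiebung_mul_teichmuller]
        congr 1
        · simp only [lead, Finset.mul_sum, map_mul]
          exact Finset.sum_congr rfl fun i _ => by ring
        · congr 1
          rw [← mul_assoc, ← map_mul, ← pow_succ, Nat.sub_add_cancel (Fact.out : p.Prime).one_le]
          ring
      have e2 : (∑ i, τ (w i) * WittVector.map f (U (k + 1) x i)) =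
          (∑ i, τ (w i) * τ (f (C * a (x.coeff 0) i))) +
            verschiebung (τ (f C ^ (p - 1)) * ∑ j, τ (w j) * WittVector.map f (U k (nx x) j)) := by
        simp only [hU, map_add, map_teichmuller, map_verschiebung, mul_add, Finset.sum_add_distrib]
        congr 1
        rw [Finset.mul_sum, map_sum (verschiebung (p := p) (R := B))]
        refine Eq.trans (Finset.sum_congr rfl fun i _ => ?_) (Finset.sum_fiberwise Finset.univ σ _)
        rw [map_sum (WittVector.map f), map_sum (verschiebung (p := p) (R := B)), Finset.mul_sum]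
        refine Finset.sum_congr rfl fun j hj => ?_
        rw [Finset.mem_filter] at hj
        rw [← hj.2, mul_comm (τ _) (verschiebung _), verschiebung_mul_teichmuller]
        congr 1
        rw [map_mul, map_teichmuller, ← mul_assoc, ← map_mul, hσ, map_mul]
        ring
      rw [e1, e2, map_add, map_add]
      congr 1
      refine truncate_verschiebung_congr ?_
      rw [map_mul, ih, ← map_mul]
  refine ⟨fun i => WittVector.mk p fun n => (U (n + 1) x i).coeff n, ?_⟩
  ext n
  have hlim : ∀ i, truncate (n + 1) (U (n + 1) x i) =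
      truncate (n + 1) (WittVector.mk p fun n => (U (n + 1) x i).coeff n) := by
    intro i
    rw [truncate_eq_iff]
    intro m hm
    rw [coeff_mk]
    have : ∀ k, m + 1 ≤ k → (U k x i).coeff m = (U (m + 1) x i).coeff m := by
      intro k hk
      induction k, hk using Nat.le_induction with
      | base => rfl
      | succ k hk ih => rw [← ih]; exact truncate_eq_iff.1 (hstab k x i) m (by omega)
    exact this (n + 1) (by omega)
  have h1 := hclaim (n + 1) x
  have h2 : truncate (n + 1) (∑ i, τ (w i) * WittVector.map f (U (n + 1) x i)) =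
      truncate (n + 1) (∑ i, τ (w i) * WittVector.map f (WittVector.mk p fun n => (U (n + 1) x i).coeff n)) := by
    rw [map_sum, map_sum]
    exact Finset.sum_congr rfl fun i _ => by rw [map_mul, map_mul, truncate_map_congr f (hlim i)]
  exact truncate_eq_iff.1 (h1.trans h2) n (Nat.lt_succ_self n)

/-- Monomials in elements with `ℓ`-th powers in the base: the data needed for `exists_decomp`. -/
theorem exists_exponent {ℓ q : ℕ} (hℓ : 0 < ℓ) (hq : 0 < q) (hcop : Nat.Coprime q ℓ) (e : Fin (ℓ + 1)) :
    ∃ e' : Fin (ℓ + 1), ∃ t : ℕ, t ≤ q ∧ q * (e' : ℕ) = e + ℓ * t := by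
  haveI : NeZero ℓ := ⟨hℓ.ne'⟩
  have hu : IsUnit (q : ZMod ℓ) := (ZMod.isUnit_iff_coprime q ℓ).2 hcop
  obtain ⟨z, hz⟩ := hu.dvd (a := ((e : ℕ) : ZMod ℓ))
  -- representative in `1..ℓ`
  obtain ⟨r, hr1, hr2, hrz⟩ : ∃ r : ℕ, 1 ≤ r ∧ r ≤ ℓ ∧ (r : ZMod ℓ) = z := by
    by_cases h : z.val = 0
    · refine ⟨ℓ, hℓ, le_rfl, ?_⟩
      rw [ZMod.natCast_self]
      exact ((ZMod.val_eq_zero z).1 h).symm
    · exact ⟨z.val, by omega, (ZMod.val_lt z).le, ZMod.natCast_rightInverse z⟩
  have hmod : ((q * r : ℕ) : ZMod ℓ) = ((e : ℕ) : ZMod ℓ) := by rw [Nat.cast_mul, hrz, hz]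
  rw [ZMod.natCast_eq_natCast_iff] at hmod
  have hle : (e : ℕ) ≤ q * r := by
    by_contra hlt
    obtain ⟨d, hd⟩ := (Nat.modEq_iff_dvd' (le_of_not_ge hlt)).1 hmod
    have he : (e : ℕ) ≤ ℓ := Nat.lt_succ_iff.1 e.2
    have : 0 < q * r := Nat.mul_pos hq hr1
    rcases Nat.eq_zero_or_pos d with rfl | hd0
    · simp at hd; omega
    · have : ℓ ≤ ℓ * d := Nat.le_mul_of_pos_right ℓ hd0
      omega
  obtain ⟨t, ht⟩ := (Nat.modEq_iff_dvd' hle).1 hmod.symm
  refine ⟨⟨r, Nat.lt_succ_iff.2 hr2⟩, t, ?_, ?_⟩
  · have h1 : q * r ≤ q * ℓ := Nat.mul_le_mul_left q hr2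
    have h2 : ℓ * t ≤ ℓ * q := by rw [mul_comm ℓ q]; omega
    exact Nat.le_of_mul_le_mul_left h2 hℓ
  · show q * r = e + ℓ * t
    omega

end GrothLib.WittCyclic
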